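import Groth.Agent.Lib.CSA.Splitting
import Groth.Agent.Lib.CSAExtra.Basic
import Mathlib.RingTheory.SimpleModule.WedderburnArtin
import Mathlib.RingTheory.Unramified.Field
import Mathlib.RingTheory.Etale.Field
import Mathlib.RingTheory.TensorProduct.Pi

set_option autoImplicit false

/-!
# Base change of semisimple algebras
-/

universe u v w

open scoped TensorProduct

namespace GrothLib.Involution

variable {k : Type u} [Field k]

theorem central_commutes {A : Type v} [Ring A] [Algebra k A] {z : A} (hz : z ∈ Subalgebra.center k A)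
    (x : A) : z * x = x * z :=
  (Subalgebra.mem_center_iff.1 hz x).symm

theorem isSemisimpleRing_baseChange_of_central (Z : Type v) [Field Z] [Algebra k Z]
    [FiniteDimensional k Z] [Algebra.IsSeparable k Z] (A : Type v) [Ring A] [Algebra k A]
    [Algebra Z A] [IsScalarTower k Z A] [Algebra.IsCentral Z A] [IsSimpleRing A]
    [FiniteDimensional Z A]
    (k' : Type w) [Field k'] [Algebra k k'] : IsSemisimpleRing (k' ⊗[k] A) := by
  classical
  let R := Z ⊗[k] k'
  let : Algebra k' R := Algebra.TensorProduct.rightAlgebra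
  have : Algebra.FormallyEtale k Z := (Algebra.FormallyEtale.iff_isSeparable k Z).2 inferInstance
  let e₀ : R ≃+* k' ⊗[k] Z := (Algebra.TensorProduct.comm k Z k').toRingEquiv
  have : IsReduced (k' ⊗[k] Z) := Algebra.FormallyUnramified.isReduced_of_field k' (k' ⊗[k] Z)
  have hred : IsReduced R := isReduced_of_injective e₀.toRingHom e₀.injective
  have : IsArtinianRing (k' ⊗[k] Z) := IsArtinianRing.of_finite k' _
  have : IsArtinianRing R := RingEquiv.isArtinianRing e₀.symm
  let ι := MaximalSpectrum R
  have : Fintype ι := Fintype.ofFinite _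
  let π : R ≃ₐ[Z] ∀ I : ι, R ⧸ I.asIdeal := (IsArtinianRing.equivPi R).restrictScalars Z
  let c : A ⊗[k] k' ≃ₗ[Z] A ⊗[Z] R :=
    (TensorProduct.AlgebraTensorModule.cancelBaseChange k Z Z A k').symm
  have hct : ∀ (a : A) (b : k'), c (a ⊗ₜ[k] b) = a ⊗ₜ[Z] ((1 : Z) ⊗ₜ[k] b) := fun a b =>
    TensorProduct.AlgebraTensorModule.cancelBaseChange_symm_tmul k Z Z a b
  have hc : ∀ x y, c (x * y) = c x * c y := by
    intro x y
    induction x using TensorProduct.induction_on with
    | zero => simp
    | add p q hp hq => rw [add_mul, map_add, map_add, hp, hq, add_mul]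
    | tmul a b =>
      induction y using TensorProduct.induction_on with
      | zero => simp
      | add p q hp hq => rw [mul_add, map_add, map_add, hp, hq, mul_add]
      | tmul a' b' => simp [hct, Algebra.TensorProduct.tmul_mul_tmul]
  let e : k' ⊗[k] A ≃+* ∀ I : ι, A ⊗[Z] (R ⧸ I.asIdeal) :=
    ((Algebra.TensorProduct.comm k k' A).toRingEquiv.trans
      ({ c.toEquiv with map_add' := map_add c, map_mul' := hc } : A ⊗[k] k' ≃+* A ⊗[Z] R)).trans
      (((Algebra.TensorProduct.congr (AlgEquiv.refl (R := Z) (A₁ := A)) π).trans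
        (Algebra.TensorProduct.piRight Z Z A fun I : ι => R ⧸ I.asIdeal)).toRingEquiv)
  have hI : ∀ I : ι, IsSemisimpleRing (A ⊗[Z] (R ⧸ I.asIdeal)) := fun I => by
    let : Field (R ⧸ I.asIdeal) := Ideal.Quotient.field I.asIdeal
    have := CSA.isSimpleRing_tensor Z (R ⧸ I.asIdeal) A
    have : IsArtinianRing ((R ⧸ I.asIdeal) ⊗[Z] A) := IsArtinianRing.of_finite (R ⧸ I.asIdeal) _
    exact RingEquiv.isSemisimpleRing (Algebra.TensorProduct.comm Z (R ⧸ I.asIdeal) A).toRingEquiv
  have : IsSemisimpleRing (∀ I : ι, A ⊗[Z] (R ⧸ I.asIdeal)) := inferInstance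
  exact RingEquiv.isSemisimpleRing (R := ∀ I : ι, A ⊗[Z] (R ⧸ I.asIdeal)) e.symm

theorem isSemisimpleRing_baseChange_simple (A : Type v) [Ring A] [Algebra k A]
    [FiniteDimensional k A] [IsSimpleRing A] [Algebra.IsSeparable k (Subalgebra.center k A)]
    (k' : Type w) [Field k'] [Algebra k k'] : IsSemisimpleRing (k' ⊗[k] A) := by
  let Z := ↥(Subalgebra.center k A)
  let : Algebra Z A := RingHom.toAlgebra' (Subalgebra.center k A).val.toRingHom
    fun c x => central_commutes c.2 x
  have : IsScalarTower k Z A := IsScalarTower.of_algebraMap_eq fun r => rfl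
  have hsep : Algebra.IsSeparable k Z := ‹Algebra.IsSeparable k (Subalgebra.center k A)›
  have hF : IsField Z := IsSimpleRing.isField_center A
  have : IsDomain Z := hF.isDomain
  let : Field Z := fieldOfFiniteDimensional k Z
  have hsep' : Algebra.IsSeparable k Z := hsep
  have : Algebra.IsCentral Z A := ⟨fun x hx => Algebra.mem_bot.2
    ⟨⟨x, Subalgebra.mem_center_iff.2 fun y => Subalgebra.mem_center_iff.1 hx y⟩, rfl⟩⟩
  have : FiniteDimensional Z A := Module.Finite.of_restrictScalars_finite k Z A
  exact @isSemisimpleRing_baseChange_of_central k _ Z _ _ _ hsep' A _ _ _ (IsScalarTower.of_algebraMap_eq fun r => rfl) _ _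
    (by assumption) k' _ _

theorem isSemisimpleRing_baseChange (A : Type v) [Ring A] [Algebra k A]
    [FiniteDimensional k A] [IsSemisimpleRing A] [Algebra.IsSeparable k (Subalgebra.center k A)]
    (k' : Type w) [Field k'] [Algebra k k'] : IsSemisimpleRing (k' ⊗[k] A) := by
  classical
  obtain ⟨n, D, d, _, _, _, hd, ⟨e⟩⟩ :=
    IsSemisimpleRing.exists_algEquiv_pi_matrix_divisionRing_finite k A
  let M := fun i => Matrix (Fin (d i)) (Fin (d i)) (D i)
  have hi : ∀ i, IsSemisimpleRing (k' ⊗[k] M i) := fun i => by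
    have : Nonempty (Fin (d i)) := ⟨⟨0, Nat.pos_of_ne_zero (hd i).out⟩⟩
    let p : A →ₐ[k] M i := (Pi.evalAlgHom k M i).comp e.toAlgHom
    have hp : Function.Surjective p := fun x => ⟨e.symm (Pi.single i x), by simp [p]⟩
    let q : Subalgebra.center k A →ₐ[k] Subalgebra.center k (M i) :=
      (p.comp (Subalgebra.center k A).val).codRestrict _ fun z => Subalgebra.mem_center_iff.2
        fun y => by
          obtain ⟨x, rfl⟩ := hp y
          simp only [AlgHom.comp_apply, ← map_mul]
          exact congr_arg p (central_commutes z.2 x).symm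
    have hq : Function.Surjective q := fun z => by
      refine ⟨⟨e.symm (Pi.single i (z : M i)), Subalgebra.mem_center_iff.2 fun y => e.injective ?_⟩,
        Subtype.ext (by simp [q, p])⟩
      rw [map_mul, map_mul, e.apply_symm_apply]
      funext j
      rcases eq_or_ne j i with rfl | hj
      · simpa using Subalgebra.mem_center_iff.1 z.2 (e y j)
      · simp [hj]
    have : Algebra.IsSeparable k (Subalgebra.center k (M i)) := ⟨fun z => by
      obtain ⟨w, rfl⟩ := hq z
      exact Polynomial.Separable.of_dvd (Algebra.IsSeparable.isSeparable k w)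
        (minpoly.dvd k _ (by rw [Polynomial.aeval_algHom_apply, minpoly.aeval, map_zero]))⟩
    exact isSemisimpleRing_baseChange_simple (M i) k'
  exact RingEquiv.isSemisimpleRing
    (((Algebra.TensorProduct.congr (AlgEquiv.refl (R := k') (A₁ := k')) e).trans
      (Algebra.TensorProduct.piRight k k' k' M)).toRingEquiv).symm

/-- A semisimple algebra with trivial centre is simple. -/
theorem isSimpleRing_of_isCentral {L : Type u} [Field L] (B : Type v) [Ring B] [Algebra L B]
    [FiniteDimensional L B] [Nontrivial B] [IsSemisimpleRing B] [Algebra.IsCentral L B] :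
    IsSimpleRing B := by
  classical
  obtain ⟨n, D, d, _, _, _, hd, ⟨e⟩⟩ :=
    IsSemisimpleRing.exists_algEquiv_pi_matrix_divisionRing_finite L B
  have hMi : ∀ i, Nonempty (Fin (d i)) := fun i => ⟨⟨0, Nat.pos_of_ne_zero (hd i).out⟩⟩
  rcases n with _ | _ | n
  · have : Subsingleton (∀ i : Fin 0, Matrix (Fin (d i)) (Fin (d i)) (D i)) :=
      ⟨fun a b => funext fun i => i.elim0⟩
    exact absurd e.toEquiv.subsingleton (not_subsingleton B)
  · have := hMi 0
    let : Unique (Fin (0 + 1)) := inferInstanceAs (Unique (Fin 1))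
    exact IsSimpleRing.of_ringEquiv
      (e.toRingEquiv.trans (RingEquiv.piUnique fun i => Matrix (Fin (d i)) (Fin (d i)) (D i))).symm
      (IsSimpleRing.matrix (Fin (d 0)) (D 0))
  · exfalso
    let z : ∀ i, Matrix (Fin (d i)) (Fin (d i)) (D i) := Pi.single 0 1
    have hz : e.symm z ∈ Subalgebra.center L B := Subalgebra.mem_center_iff.2 fun y => e.injective (by
      rw [map_mul, map_mul, e.apply_symm_apply]
      funext j
      rcases eq_or_ne j 0 with rfl | hj
      · simp [z]
      · simp [z, hj])
    obtain ⟨c, hc⟩ := (Algebra.IsCentral.mem_center_iff L).1 hz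
    have h1 : algebraMap L _ c = z := by rw [← e.commutes, ← hc, e.apply_symm_apply]
    have := hMi 0
    have := hMi 1
    have h0 := congr_fun h1 0
    have h2 := congr_fun h1 1
    simp only [z, Pi.algebraMap_apply, Pi.single_eq_same,
      Pi.single_eq_of_ne (show (1 : Fin (n + 2)) ≠ 0 by simp)] at h0 h2
    rw [map_eq_zero_iff _ (FaithfulSMul.algebraMap_injective L _)] at h2
    rw [h2, map_zero] at h0
    exact zero_ne_one h0

end GrothLib.Involution
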